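import Mathlib
import Cfsg.Agent.Lib.Helper95.BRA.Defs

/-!
# Project BRA (S4484): package [Bli]

The sharp Blichfeldt lemma for simple groups, from the packages [B1], [B2], [B4].
-/

set_option autoImplicit false

open scoped Matrix ComplexConjugate

namespace Cfsg.Agent.Lib.Helper59.BRA

open Cfsg Cfsg.Agent.Lib.Helper74.Jordan Cfsg.Agent.Lib.Helper95.BRA

universe u

theorem pkgBli : PkgB1 → PkgB2 → PkgB4.{u} → PkgBli.{u} := by
  intro hB1 hB2 hB4 G _ _ _ hnab n U hU hfix x hx1 j₀ hS
  have hN : Nat.card G ≠ 0 := Nat.card_pos.ne'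
  have hUm : ∀ a b : G, U (a * b) = U a * U b := fun a b => map_mul U a b
  have hU1 : U 1 = 1 := map_one U
  have hUinvl : ∀ g : G, U g⁻¹ * U g = 1 := by
    intro g
    rw [← hUm, inv_mul_cancel, hU1]
  have hUinvr : ∀ g : G, U g * U g⁻¹ = 1 := by
    intro g
    rw [← hUm, mul_inv_cancel, hU1]
  have hpow : ∀ g : G, U g ^ Nat.card G = 1 := by
    intro g
    rw [← map_pow, pow_card_eq_one', map_one]
  have hinv : ∀ g : G, (U g)ᴴ = U g⁻¹ := by
    intro g
    calc (U g)ᴴ = (U g)ᴴ * (U g * U g⁻¹) := by rw [hUinvr, Matrix.mul_one]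
      _ = ((U g)ᴴ * U g) * U g⁻¹ := by rw [Matrix.mul_assoc]
      _ = U g⁻¹ := by rw [hU g, Matrix.one_mul]
  obtain ⟨P, hP⟩ : ∃ P, P = proj (U x) (Nat.card G) j₀ := ⟨_, rfl⟩
  have hj₀ : j₀ < Nat.card G := hS.1
  have hPne : P ≠ 0 := by rw [hP]; exact hS.2.1
  have hPidem : P * P = P := by rw [hP]; exact proj_idem hN (hpow x) hj₀
  have hPherm : Pᴴ = P := by rw [hP]; exact proj_herm hN (hpow x) (hU x) j₀
  have hxP : U x * P = ev (Nat.card G) j₀ • P := by rw [hP]; exact mul_proj hN (hpow x) j₀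
  obtain ⟨PY, hPY⟩ : ∃ PY : G → Matrix (Fin n) (Fin n) ℂ, ∀ y, PY y = U y * P * U y⁻¹ :=
    ⟨fun y => U y * P * U y⁻¹, fun y => rfl⟩
  have hPYmul : ∀ h z : G, PY (h * z) = U h * PY z * U h⁻¹ := by
    intro h z
    rw [hPY, hPY, mul_inv_rev, hUm, hUm]
    simp only [Matrix.mul_assoc]
  have hB4' : ∀ y₁ y₂ : G, PY y₁ * PY y₂ = PY y₂ * PY y₁ := by
    intro y₁ y₂
    have h := hB4 G n U hU x j₀ hS y₁ y₂
    rw [hinv y₁, hinv y₂, ← hP] at h
    rw [hPY, hPY]
    exact h
  have hQherm : ∀ y : G, (PY y)ᴴ = PY y := by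
    intro y
    rw [hPY, Matrix.conjTranspose_mul, Matrix.conjTranspose_mul, hPherm, hinv y⁻¹, inv_inv,
      hinv y, ← Matrix.mul_assoc]
  have hQidem : ∀ y : G, PY y * PY y = PY y := by
    intro y
    rw [hPY]
    calc U y * P * U y⁻¹ * (U y * P * U y⁻¹) = U y * (P * ((U y⁻¹ * U y) * P)) * U y⁻¹ := by
          simp only [Matrix.mul_assoc]
      _ = U y * P * U y⁻¹ := by rw [hUinvl, Matrix.one_mul, hPidem]
  have hrange : ∀ w : Fin n → ℂ, w ≠ 0 → star w ⬝ᵥ (U x *ᵥ w) ≠ 0 :=
    fun w => (hB1 n (U x) (Nat.card G) j₀ hN (hpow x) (hU x) hS w).2.2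
  have hxH : ∀ y : G, PY (x * y) = PY y := by
    intro y
    have h1 : U x * PY y = PY y * U x := by
      apply hB2 n (U x) (PY y) (hU x) (hQherm y) (hQidem y) hrange
      rw [hinv x, ← hPYmul]
      exact hB4' _ _
    rw [hPYmul, h1, Matrix.mul_assoc, hUinvr, Matrix.mul_one]
  -- the subgroup fixing all the conjugate projections
  obtain ⟨H, hH⟩ : ∃ H : Subgroup G, ∀ a : G, a ∈ H ↔ ∀ y, PY (a * y) = PY y :=
    ⟨{ carrier := {a | ∀ y, PY (a * y) = PY y}
       one_mem' := by
         intro y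
         rw [one_mul]
       mul_mem' := by
         intro a b ha hb y
         rw [mul_assoc, ha, hb]
       inv_mem' := by
         intro a ha y
         have := ha (a⁻¹ * y)
         rw [mul_inv_cancel_left] at this
         exact this.symm }, fun a => Iff.rfl⟩
  have hHn : H.Normal := by
    refine ⟨fun a ha h => ?_⟩
    rw [hH] at ha ⊢
    intro y
    calc PY (h * a * h⁻¹ * y) = PY (h * (a * (h⁻¹ * y))) := by simp only [mul_assoc]
      _ = U h * PY (a * (h⁻¹ * y)) * U h⁻¹ := hPYmul _ _
      _ = U h * PY (h⁻¹ * y) * U h⁻¹ := by rw [ha]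
      _ = PY (h * (h⁻¹ * y)) := (hPYmul _ _).symm
      _ = PY y := by rw [mul_inv_cancel_left]
  have hHtop : H = ⊤ := by
    rcases hHn.eq_bot_or_eq_top with h | h
    · exfalso
      have hx : x ∈ H := (hH x).mpr hxH
      rw [h, Subgroup.mem_bot] at hx
      exact hx1 hx
    · exact h
  have hcomm : ∀ g : G, U g * P = P * U g := by
    intro g
    have hg : g ∈ H := by rw [hHtop]; exact Subgroup.mem_top g
    have h1 := (hH g).mp hg 1
    rw [mul_one, hPY, hPY 1, inv_one, hU1, Matrix.one_mul, Matrix.mul_one] at h1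
    calc U g * P = U g * P * (U g⁻¹ * U g) := by rw [hUinvl, Matrix.mul_one]
      _ = (U g * P * U g⁻¹) * U g := by simp only [Matrix.mul_assoc]
      _ = P * U g := by rw [h1]
  -- the subgroup acting trivially on the image of `P`
  obtain ⟨K, hK⟩ : ∃ K : Subgroup G, ∀ a : G, a ∈ K ↔ U a * P = P :=
    ⟨{ carrier := {a | U a * P = P}
       one_mem' := by
         show U 1 * P = P
         rw [hU1, Matrix.one_mul]
       mul_mem' := by
         intro a b (ha : U a * P = P) (hb : U b * P = P)
         show U (a * b) * P = P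
         rw [hUm, Matrix.mul_assoc, hb, ha]
       inv_mem' := by
         intro a (ha : U a * P = P)
         show U a⁻¹ * P = P
         calc U a⁻¹ * P = U a⁻¹ * (U a * P) := by rw [ha]
           _ = (U a⁻¹ * U a) * P := by rw [Matrix.mul_assoc]
           _ = P := by rw [hUinvl, Matrix.one_mul] }, fun a => Iff.rfl⟩
  have hKn : K.Normal := by
    refine ⟨fun a ha h => ?_⟩
    rw [hK] at ha ⊢
    calc U (h * a * h⁻¹) * P = U h * U a * (U h⁻¹ * P) := by
          rw [hUm, hUm]
          simp only [Matrix.mul_assoc]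
      _ = U h * U a * (P * U h⁻¹) := by rw [hcomm h⁻¹]
      _ = U h * (U a * P) * U h⁻¹ := by simp only [Matrix.mul_assoc]
      _ = U h * P * U h⁻¹ := by rw [ha]
      _ = P * U h * U h⁻¹ := by rw [hcomm h]
      _ = P := by rw [Matrix.mul_assoc, hUinvr, Matrix.mul_one]
  rcases hKn.eq_bot_or_eq_top with hKb | hKt
  · -- `x` is central
    have hxc : ∀ g : G, x * g = g * x := by
      intro g
      have h1 : U (x * g) * P = U (g * x) * P := by
        calc U (x * g) * P = U x * (U g * P) := by rw [hUm, Matrix.mul_assoc]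
          _ = U x * (P * U g) := by rw [hcomm g]
          _ = (U x * P) * U g := by rw [Matrix.mul_assoc]
          _ = (ev (Nat.card G) j₀ • P) * U g := by rw [hxP]
          _ = ev (Nat.card G) j₀ • (P * U g) := by rw [Matrix.smul_mul]
          _ = ev (Nat.card G) j₀ • (U g * P) := by rw [hcomm g]
          _ = U g * (ev (Nat.card G) j₀ • P) := by rw [Matrix.mul_smul]
          _ = U g * (U x * P) := by rw [hxP]
          _ = U (g * x) * P := by rw [hUm, Matrix.mul_assoc]
      have h2 : (g * x)⁻¹ * (x * g) ∈ K := by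
        rw [hK]
        calc U ((g * x)⁻¹ * (x * g)) * P = U (g * x)⁻¹ * (U (x * g) * P) := by
              rw [hUm, Matrix.mul_assoc]
          _ = U (g * x)⁻¹ * (U (g * x) * P) := by rw [h1]
          _ = (U (g * x)⁻¹ * U (g * x)) * P := by rw [Matrix.mul_assoc]
          _ = P := by rw [hUinvl, Matrix.one_mul]
      rw [hKb, Subgroup.mem_bot] at h2
      exact (inv_mul_eq_one.mp h2).symm
    have hxz : x ∈ Subgroup.center G := by
      rw [Subgroup.mem_center_iff]
      intro g
      exact (hxc g).symm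
    have hZn : (Subgroup.center G).Normal := inferInstance
    rcases hZn.eq_bot_or_eq_top with hz | hz
    · rw [hz, Subgroup.mem_bot] at hxz
      exact hx1 hxz
    · apply hnab
      intro a b
      have ha : a ∈ Subgroup.center G := by rw [hz]; exact Subgroup.mem_top a
      rw [Subgroup.mem_center_iff] at ha
      exact (ha b).symm
  · -- every column of `P` is a fixed vector
    have hKall : ∀ g : G, U g * P = P := by
      intro g
      rw [← hK, hKt]
      exact Subgroup.mem_top g
    apply hPne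
    ext i j
    have hv := hfix (fun k => P k j) (by
      intro g
      funext k
      have := congrFun (congrFun (hKall g) k) j
      rw [Matrix.mul_apply] at this
      rw [Matrix.mulVec, dotProduct]
      exact this)
    exact congrFun hv i

end Cfsg.Agent.Lib.Helper59.BRA
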